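import Groth.Agent.MultTori.K441.Defs
import Mathlib.Algebra.Field.ZMod
import Mathlib.Algebra.Order.Archimedean.Real.Basic

/-!
# The degree on `𝔽_p[x₁, …, x_r]` (node RQ-A1' of S18688, helper92)
-/

set_option autoImplicit false

namespace K92.DegZmod

open Groth.Agent.MultTori.K441 MvPolynomial

/-- RQ-A1' -/
theorem degNorm_zmod (p : ℕ) [Fact p.Prime] (r : ℕ) :
    Nonempty (DegNorm (MvPolynomial (Fin r) (ZMod p))) := by
  classical
  refine ⟨{ deg := fun x => x.totalDegree
            nm := fun x => if x = 0 then 0 else 1
            C := 1
            one_le := le_refl _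
            deg_mul := fun x y hx hy => totalDegree_mul_of_isDomain hx hy
            deg_add := fun x y => totalDegree_add x y
            nm_zero := if_pos rfl
            one_le_nm := fun x hx => by rw [if_neg hx]
            nm_add := fun x y => ?_
            nm_mul := fun x y => ?_
            nm_mul' := fun x y hx hy => ?_
            fin := fun B => ?_ }⟩
  · by_cases hx : x = 0
    · subst hx; simp
    · by_cases hy : y = 0
      · subst hy; simp
      · rw [if_neg hx, if_neg hy]
        split_ifs <;> norm_num
  · by_cases hx : x = 0
    · subst hx; simp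
    · by_cases hy : y = 0
      · subst hy; simp
      · rw [if_neg hx, if_neg hy]
        split_ifs <;> norm_num
  · rw [if_neg hx, if_neg hy, if_neg (mul_ne_zero hx hy)]
    norm_num
  · have h1 : Finite (restrictTotalDegree (Fin r) (ZMod p) ⌊B⌋₊) :=
      Module.finite_of_finite (ZMod p)
    refine (Set.toFinite (restrictTotalDegree (Fin r) (ZMod p) ⌊B⌋₊ : Set (MvPolynomial (Fin r) (ZMod p)))).subset ?_
    rintro x ⟨hx, -⟩
    rw [SetLike.mem_coe, mem_restrictTotalDegree]
    exact Nat.le_floor hx

end K92.DegZmod
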