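import Groth.Agent.MultTori.K441.Defs
import Mathlib.Algebra.Field.ZMod
import Mathlib.Algebra.Algebra.ZMod
import Mathlib.Algebra.CharP.Defs
import Mathlib.FieldTheory.IntermediateField.Adjoin.Algebra
import Mathlib.RingTheory.AlgebraicIndependent.TranscendenceBasis
import Mathlib.RingTheory.Localization.FractionRing

/-!
# Noether normalization for finitely generated fields (node RQ-A5 of S18688, helper92)
-/

set_option autoImplicit false

universe u

namespace K92.NormFld

open MvPolynomial

section aux

variable (k : Type) [CommRing k] [IsDomain k] (F : Type u) [Field F] [Algebra k F] [FaithfulSMul k F]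

/-- a finite transcendence basis -/
theorem exists_basis [Algebra.EssFiniteType k F] : ∃ (r : ℕ) (t : Fin r → F), IsTranscendenceBasis k t := by
  let s := Algebra.EssFiniteType.finset k F
  have halg : Algebra.IsAlgebraic (Algebra.adjoin k (s : Set F)) F := by
    refine ⟨fun x => ?_⟩
    obtain ⟨x, m, rfl⟩ := IsLocalization.exists_mk'_eq (Algebra.EssFiniteType.submonoid k F) x
    have hm : m.1 ≠ 0 := by
      intro h
      have := (IsLocalization.map_units F m).ne_zero
      rw [h, map_zero] at this
      exact this rfl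
    refine ⟨Polynomial.C m.1 * Polynomial.X - Polynomial.C x, ?_, ?_⟩
    · intro h
      have := congrArg (fun f => Polynomial.coeff f 1) h
      simp [Polynomial.coeff_C] at this
      exact hm (by simpa using this)
    · simp only [map_sub, map_mul, Polynomial.aeval_C, Polynomial.aeval_X]
      rw [mul_comm, IsLocalization.mk'_spec, sub_self]
  obtain ⟨t, hts, ht⟩ := exists_isTranscendenceBasis_subset (R := k) (s : Set F)
  have hfin : Finite t := (s.finite_toSet.subset hts).to_subtype
  obtain ⟨n, ⟨e⟩⟩ := Finite.exists_equiv_fin t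
  exact ⟨n, fun i => (e.symm i : F), ht.comp_equiv e.symm⟩

theorem main [Algebra.EssFiniteType k F] (hk : ∀ c : k, ∃ n : ℤ, algebraMap k F c = n) :
    ∃ (F₀ : Subfield F) (r : ℕ), Module.Finite F₀ F ∧
      ∃ _ : Algebra (MvPolynomial (Fin r) k) F₀, IsFractionRing (MvPolynomial (Fin r) k) F₀ := by
  obtain ⟨r, t, ht⟩ := exists_basis k F
  let F₀ : Subfield F := Subfield.closure (Set.range t)
  have hkF : ∀ c : k, algebraMap k F c ∈ F₀ := fun c => by
    obtain ⟨n, hn⟩ := hk c
    rw [hn]
    exact intCast_mem F₀ n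
  let alg0 : Algebra k F₀ := ((algebraMap k F).codRestrict F₀.toSubring hkF).toAlgebra
  have htow0 : IsScalarTower k F₀ F := IsScalarTower.of_algebraMap_eq fun c => rfl
  have hess : Algebra.EssFiniteType F₀ F := Algebra.EssFiniteType.of_comp k F₀ F
  have hle : ∀ x ∈ Algebra.adjoin k (Set.range t), x ∈ F₀ := by
    intro x hx
    induction hx using Algebra.adjoin_induction with
    | mem x hx => exact Subfield.subset_closure hx
    | algebraMap c => exact hkF c
    | add x y _ _ hx hy => exact add_mem hx hy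
    | mul x y _ _ hx hy => exact mul_mem hx hy
  -- finiteness
  have halg : Algebra.IsAlgebraic F₀ F := by
    let alg1 : Algebra (Algebra.adjoin k (Set.range t)) F₀ :=
      (((Algebra.adjoin k (Set.range t)).subtype : _ →+* F).codRestrict F₀.toSubring
        (fun x => hle x.1 x.2)).toAlgebra
    have htow1 : IsScalarTower (Algebra.adjoin k (Set.range t)) F₀ F :=
      IsScalarTower.of_algebraMap_eq fun c => rfl
    have h1 : Algebra.IsAlgebraic (Algebra.adjoin k (Set.range t)) F := ht.isAlgebraic
    refine Algebra.IsAlgebraic.extendScalars (R := Algebra.adjoin k (Set.range t)) ?_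
    intro x y hxy
    exact Subtype.ext (congrArg (fun z : F₀ => (z : F)) hxy)
  have hfin : Module.Finite F₀ F := Algebra.finite_of_essFiniteType_of_isAlgebraic
  -- the fraction ring
  have hmem : ∀ f : MvPolynomial (Fin r) k, aeval t f ∈ F₀ := fun f =>
    hle _ (by rw [Algebra.adjoin_range_eq_range_aeval]; exact ⟨f, rfl⟩)
  let algM : Algebra (MvPolynomial (Fin r) k) F₀ :=
    ((aeval t : MvPolynomial (Fin r) k →ₐ[k] F).toRingHom.codRestrict F₀.toSubring hmem).toAlgebra
  have hcl : ∀ x ∈ Subring.closure (Set.range t), ∃ f : MvPolynomial (Fin r) k, aeval t f = x := by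
    intro x hx
    have : x ∈ (aeval t : MvPolynomial (Fin r) k →ₐ[k] F).toRingHom.range := by
      refine (Subring.closure_le.2 ?_) hx
      rintro _ ⟨i, rfl⟩
      exact ⟨X i, aeval_X _ _⟩
    exact this
  have hfaith : FaithfulSMul (MvPolynomial (Fin r) k) F₀ := by
    rw [faithfulSMul_iff_algebraMap_injective]
    intro f g hfg
    exact ht.1 (congrArg (fun z : F₀ => (z : F)) hfg)
  refine ⟨F₀, r, hfin, algM, IsFractionRing.of_field _ _ fun z => ?_⟩
  obtain ⟨x, hx, y, hy, hxy⟩ := Subfield.mem_closure_iff.1 z.2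
  obtain ⟨f, rfl⟩ := hcl x hx
  obtain ⟨g, rfl⟩ := hcl y hy
  exact ⟨f, g, Subtype.ext hxy.symm⟩

end aux

/-- RQ-A5 (Noether normalization for fields). -/
theorem exists_normalization (F : Type u) [Field F] [Algebra.EssFiniteType ℤ F] :
    ∃ (F₀ : Subfield F) (r : ℕ), Module.Finite F₀ F ∧
      ((∃ _ : Algebra (MvPolynomial (Fin r) ℤ) F₀, IsFractionRing (MvPolynomial (Fin r) ℤ) F₀) ∨
        ∃ (p : ℕ) (_ : Fact p.Prime) (_ : Algebra (MvPolynomial (Fin r) (ZMod p)) F₀),
          IsFractionRing (MvPolynomial (Fin r) (ZMod p)) F₀) := by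
  obtain ⟨p, hp⟩ := CharP.exists F
  rcases CharP.char_is_prime_or_zero F p with hprime | h0
  · have : Fact p.Prime := ⟨hprime⟩
    let alg : Algebra (ZMod p) F := _root_.ZMod.algebra F p
    have htow : IsScalarTower ℤ (ZMod p) F := inferInstance
    have hess : Algebra.EssFiniteType (ZMod p) F := Algebra.EssFiniteType.of_comp ℤ (ZMod p) F
    obtain ⟨F₀, r, h1, h2⟩ := main (ZMod p) F (fun c => by
      obtain ⟨n, rfl⟩ := ZMod.intCast_surjective c
      exact ⟨n, by simp⟩)
    exact ⟨F₀, r, h1, Or.inr ⟨p, this, h2⟩⟩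
  · subst h0
    have : CharZero F := CharP.charP_to_charZero F
    have hf : FaithfulSMul ℤ F := by
      rw [faithfulSMul_iff_algebraMap_injective]
      exact Int.cast_injective
    obtain ⟨F₀, r, h1, h2⟩ := main ℤ F (fun c => ⟨c, by simp⟩)
    exact ⟨F₀, r, h1, Or.inl h2⟩

end K92.NormFld
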