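import Groth.Agent.MultTori.K441.Defs
import Groth.Agent.MultTori.K792.Units
import Mathlib.FieldTheory.IntermediateField.Adjoin.Algebra
import Mathlib.FieldTheory.PrimeField
import Mathlib.NumberTheory.NumberField.ClassNumber
import Mathlib.RingTheory.ClassGroup.Basic
import Mathlib.RingTheory.FiniteType
import Mathlib.RingTheory.Localization.AsSubring

/-!
# Number fields and finite fields are good (node RQ-D5 of S18688, helper92)
-/

set_option autoImplicit false

universe u v

namespace K92.GoodZero

open Groth.Agent.MultTori.K441 NumberField nonZeroDivisors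

/-- a Dedekind domain with finite class group becomes principal after inverting one element -/
theorem exists_pid_away (A : Type u) [CommRing A] [IsDedekindDomain A] [Finite (ClassGroup A)] :
    ∃ s : A, s ≠ 0 ∧ ∀ (B : Type v) [CommRing B] [Algebra A B] [IsLocalization.Away s B],
      IsPrincipalIdealRing B := by
  classical
  have := Fintype.ofFinite (ClassGroup A)
  choose I hI using ClassGroup.mk0_surjective (R := A)
  have hne : ∀ c, ∃ a ∈ (I c : Ideal A), a ≠ 0 := fun c =>
    (Submodule.ne_bot_iff _).1 (nonZeroDivisors.coe_ne_zero (I c))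
  choose a haI ha0 using hne
  refine ⟨∏ c, a c, Finset.prod_ne_zero_iff.2 fun c _ => ha0 c, fun B _ _ _ => ⟨fun K => ?_⟩⟩
  have hmapI : ∀ c, (I c : Ideal A).map (algebraMap A B) = ⊤ := fun c => by
    rw [Ideal.eq_top_iff_one]
    have h1 : IsUnit (algebraMap A B (∏ c, a c)) := IsLocalization.Away.algebraMap_isUnit _
    have h2 : IsUnit (algebraMap A B (a c)) := by
      refine isUnit_of_dvd_unit ?_ h1
      exact map_dvd _ (Finset.dvd_prod_of_mem a (Finset.mem_univ c))
    exact ((Ideal.map (algebraMap A B) (I c)).eq_top_of_isUnit_mem (Ideal.mem_map_of_mem _ (haI c)) h2) ▸ trivial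
  have hK : (K.comap (algebraMap A B)).map (algebraMap A B) = K :=
    IsLocalization.map_under (Submonoid.powers (∏ c, a c)) B K
  by_cases hJ : K.comap (algebraMap A B) = ⊥
  · rw [← hK, hJ, Ideal.map_bot]
    infer_instance
  · let J : (Ideal A)⁰ := ⟨K.comap (algebraMap A B), mem_nonZeroDivisors_iff_ne_zero.2 hJ⟩
    have h1 : ClassGroup.mk0 (J * I (ClassGroup.mk0 J)⁻¹) = 1 := by
      rw [map_mul, hI, mul_inv_cancel]
    have h2 := (ClassGroup.mk0_eq_one_iff (J * I (ClassGroup.mk0 J)⁻¹).2).1 h1
    obtain ⟨x, hx⟩ := h2.principal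
    refine ⟨⟨algebraMap A B x, ?_⟩⟩
    have h3 : (((J * I (ClassGroup.mk0 J)⁻¹ : (Ideal A)⁰) : Ideal A)).map (algebraMap A B) = K := by
      change (K.comap (algebraMap A B) * (I (ClassGroup.mk0 J)⁻¹ : Ideal A)).map (algebraMap A B) = K
      rw [Ideal.map_mul, hmapI, hK, Ideal.mul_top]
    rw [← h3, hx, Ideal.submodule_span_eq, Ideal.map_span, Set.image_singleton]

theorem good_of_numberField (K : Type u) [Field K] [NumberField K] : Good K := by
  obtain ⟨s, hs0, hs⟩ := exists_pid_away.{u, u} (𝓞 K)
  have hle : Submonoid.powers s ≤ (𝓞 K)⁰ := powers_le_nonZeroDivisors_of_noZeroDivisors hs0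
  let R := Localization.subalgebra.ofField K (Submonoid.powers s) hle
  have hloc : IsLocalization.Away s R := Localization.subalgebra.isLocalization_ofField K _ hle
  have hpid : IsPrincipalIdealRing R := hs R
  have hft : Algebra.FiniteType (𝓞 K) R :=
    Algebra.FiniteType.equiv (inferInstanceAs (Algebra.FiniteType (𝓞 K) (Localization.Away s)))
      (IsLocalization.algEquiv (Submonoid.powers s) (Localization.Away s) R)
  have hft2 : Algebra.FiniteType ℤ R := Algebra.FiniteType.trans (S := 𝓞 K) inferInstance hft
  exact ⟨R, inferInstance, inferInstance, inferInstance, hft2, inferInstance, inferInstance, K792.Units.unitsFG R⟩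

/-- RQ-D5 (finite fields and number fields). -/
theorem good_of_tr_zero (K : Type u) [Field K] [Algebra.EssFiniteType ℤ K] (hK : Tr K 0) : Good K := by
  obtain ⟨t, ht⟩ := hK
  have halg : Algebra.IsAlgebraic (⊥ : Subfield K) K := ht.isEmpty_iff_isAlgebraic.1 inferInstance
  have hess : Algebra.EssFiniteType (⊥ : Subfield K) K := Algebra.EssFiniteType.of_comp ℤ _ K
  have hfin : Module.Finite (⊥ : Subfield K) K := Algebra.finite_of_essFiniteType_of_isAlgebraic
  obtain ⟨p, hp⟩ := CharP.exists K
  rcases CharP.char_is_prime_or_zero K p with hprime | h0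
  · have : Fact p.Prime := ⟨hprime⟩
    let alg : Algebra (ZMod p) K := _root_.ZMod.algebra K p
    have hbot : Finite (⊥ : Subfield K) := by
      rw [Subfield.bot_eq_of_zMod_algebra p]
      exact Set.finite_range _
    have hKfin : Finite K := Module.finite_of_finite (⊥ : Subfield K)
    refine ⟨K, inferInstance, inferInstance, inferInstance, ?_, inferInstance, inferInstance, ?_⟩
    · have : Module.Finite ℤ K := Module.Finite.of_finite
      infer_instance
    · exact Group.fg_of_finite
  · subst h0
    have : CharZero K := CharP.charP_to_charZero K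
    have hfd : FiniteDimensional ℚ K := by
      have hsurj : Function.Surjective (algebraMap ℚ (⊥ : Subfield K)) := by
        intro x
        have hx : (x : K) ∈ (algebraMap ℚ K).fieldRange := by
          rw [← Subfield.bot_eq_of_charZero]
          exact x.2
        obtain ⟨q, hq⟩ := hx
        exact ⟨q, Subtype.ext (by rw [← hq]; simp)⟩
      have h1 : Module.Finite ℚ (⊥ : Subfield K) :=
        Module.Finite.of_surjective (Algebra.linearMap ℚ (⊥ : Subfield K)) hsurj
      have h2 : IsScalarTower ℚ (⊥ : Subfield K) K := inferInstance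
      exact Module.Finite.trans (⊥ : Subfield K) K
    have : NumberField K := ⟨⟩
    exact good_of_numberField K

end K92.GoodZero
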